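import Mathlib.CategoryTheory.Functor.Flat
import Mathlib.CategoryTheory.Sites.Pullback
import Mathlib.Algebra.Category.Grp.FilteredColimits
import Mathlib.Algebra.Category.Grp.AB
import Mathlib.Algebra.Category.Grp.Limits
import Mathlib.CategoryTheory.Abelian.GrothendieckAxioms.Basic
import Mathlib.CategoryTheory.Preadditive.Injective.Basic
import Mathlib.CategoryTheory.Comma.Over.Basic

/-!
Exactness of left Kan extensions of abelian presheaves along functors to slice categories, large sites.
-/

set_option autoImplicit false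
set_option linter.unusedSectionVars false
universe u

open CategoryTheory Category Limits Opposite

namespace Groth.L28.MultiFlat

section LanEval

variable {C' D' E' : Type*} [Category C'] [Category D'] [Category E']

set_option backward.defeqAttrib.useBackward true in
set_option backward.isDefEq.respectTransparency false in
/-- The evaluation of a left Kan extension as a colimit over costructured arrows. -/
noncomputable def lanEval (F : C' ⥤ D') (X : D') [∀ X : D', HasColimitsOfShape (CostructuredArrow F X) E'] :
    F.lan ⋙ (evaluation D' E').obj X ≅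
      (Functor.whiskeringLeft _ _ E').obj (CostructuredArrow.proj F X) ⋙ colim :=
  NatIso.ofComponents (fun G =>
    IsColimit.coconePointUniqueUpToIso
    (Functor.isPointwiseLeftKanExtensionLeftKanExtensionUnit F G X)
    (colimit.isColimit _)) (fun {G₁ G₂} φ => by
      apply (Functor.isPointwiseLeftKanExtensionLeftKanExtensionUnit F G₁ X).hom_ext
      intro T
      have h₁ := fun (G : C' ⥤ E') => IsColimit.comp_coconePointUniqueUpToIso_hom
        (Functor.isPointwiseLeftKanExtensionLeftKanExtensionUnit F G X) (colimit.isColimit _) T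
      have h₂ := congr_app (F.lanUnit.naturality φ) T.left
      dsimp at h₁ h₂ ⊢
      simp only [Category.assoc] at h₁ ⊢
      simp only [Functor.lan, Functor.lanUnit] at h₂ ⊢
      rw [reassoc_of% h₁, NatTrans.naturality_assoc, ← reassoc_of% h₂, h₁,
        ι_colimMap, Functor.whiskerLeft_app]
      rfl)

end LanEval

variable {C D : Type (u + 1)} [Category.{u} C] [Category.{u} D] (G : C ⥤ D)

/-- The comma categories are disjoint unions of filtered ones. -/
def IsMultiFlat : Prop :=
  ∀ x : Dᵒᵖ, ∃ (H : Type u) (π : CostructuredArrow G.op x ⥤ Discrete H), ∀ c, IsFiltered (CostructuredArrow π c)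

/-- Colimits over a disjoint union of filtered categories are exact. -/
theorem preservesFiniteLimits_colim {J : Type (u + 1)} [Category.{u} J] {H : Type u} (π : J ⥤ Discrete H)
    (h : ∀ c, IsFiltered (CostructuredArrow π c)) :
    PreservesFiniteLimits (colim : (J ⥤ AddCommGrpCat.{u + 1}) ⥤ AddCommGrpCat.{u + 1}) := by
  haveI : AB5OfSize.{u, u + 1} AddCommGrpCat.{u + 1} := AB5OfSize_shrink.{u, u + 1, u + 1, u + 1} _
  haveI : AB4OfSize.{u} AddCommGrpCat.{u + 1} := AB4OfSize_shrink.{u, u + 1} _
  have h1 : PreservesFiniteLimits (π.lan : (J ⥤ AddCommGrpCat.{u + 1}) ⥤ Discrete H ⥤ AddCommGrpCat.{u + 1}) := by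
    refine ⟨fun K _ _ => preservesLimitsOfShape_of_evaluation _ K fun c => ?_⟩
    have := h c
    have : PreservesFiniteLimits (colim : (CostructuredArrow π c ⥤ AddCommGrpCat.{u + 1}) ⥤ AddCommGrpCat.{u + 1}) :=
      HasExactColimitsOfShape.preservesFiniteLimits
    exact preservesLimitsOfShape_of_natIso (lanEval _ _).symm
  have : PreservesFiniteLimits (colim : (Discrete H ⥤ AddCommGrpCat.{u + 1}) ⥤ AddCommGrpCat.{u + 1}) :=
    HasExactColimitsOfShape.preservesFiniteLimits
  have := comp_preservesFiniteLimits (π.lan : (J ⥤ AddCommGrpCat.{u + 1}) ⥤ Discrete H ⥤ AddCommGrpCat.{u + 1}) colim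
  let e : Functor.const (Discrete H) ⋙ (Functor.whiskeringLeft J (Discrete H) AddCommGrpCat.{u + 1}).obj π ≅
      Functor.const J := NatIso.ofComponents (fun X => NatIso.ofComponents fun _ => Iso.refl _)
  exact preservesFiniteLimits_of_natIso
    ((((π.lanAdjunction AddCommGrpCat.{u + 1}).comp colimConstAdj).ofNatIsoRight e).leftAdjointUniq colimConstAdj)

theorem preservesFiniteLimits_lan (h : IsMultiFlat G) :
    PreservesFiniteLimits (G.op.lan : (Cᵒᵖ ⥤ AddCommGrpCat.{u + 1}) ⥤ Dᵒᵖ ⥤ AddCommGrpCat.{u + 1}) := by
  refine ⟨fun K _ _ => preservesLimitsOfShape_of_evaluation _ K fun x => ?_⟩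
  obtain ⟨H, π, hπ⟩ := h x
  have := preservesFiniteLimits_colim π hπ
  exact preservesLimitsOfShape_of_natIso (lanEval _ _).symm

variable (J : GrothendieckTopology C) (K : GrothendieckTopology D) [G.IsContinuous J K]

/-- Restriction along such a functor preserves injectives. -/
theorem injective_restrict (h : IsMultiFlat G) (X : Sheaf K AddCommGrpCat.{u + 1}) [Injective X] :
    Injective ((G.sheafPushforwardContinuous AddCommGrpCat.{u + 1} J K).obj X) :=
  have := preservesFiniteLimits_lan G h
  have : PreservesFiniteLimits (G.sheafPullback AddCommGrpCat.{u + 1} J K) :=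
    Functor.sheafPullbackConstruction.preservesFiniteLimits G AddCommGrpCat.{u + 1} J K
  Injective.injective_of_adjoint (G.sheafAdjunctionContinuous AddCommGrpCat.{u + 1} J K) X

section OverMap

variable {E : Type (u + 1)} [Category.{u} E] {T S : E} (F : C ⥤ Over T) (f : T ⟶ S)

/-- A representably flat functor to a slice followed by composition with a map is multi-flat. -/
theorem isMultiFlat_comp_overMap [RepresentablyFlat F] : IsMultiFlat (F ⋙ Over.map f) := fun x => by
  let H := {g : x.unop.left ⟶ T // g ≫ f = x.unop.hom}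
  let gobj : CostructuredArrow (F ⋙ Over.map f).op x → H := fun a =>
    ⟨a.hom.unop.left ≫ (F.obj a.left.unop).hom, (assoc _ _ _).trans (Over.w a.hom.unop)⟩
  let π : CostructuredArrow (F ⋙ Over.map f).op x ⥤ Discrete H :=
    { obj := fun a => ⟨gobj a⟩
      map := fun {a b} m => Discrete.eqToHom (Subtype.ext (by
        show a.hom.unop.left ≫ (F.obj a.left.unop).hom = b.hom.unop.left ≫ (F.obj b.left.unop).hom
        have e : (b.hom.unop ≫ (F ⋙ Over.map f).map m.left.unop) = a.hom.unop :=
          Quiver.Hom.op_inj (by simpa using CostructuredArrow.w m)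
        have e' : b.hom.unop.left ≫ (F.map m.left.unop).left = a.hom.unop.left := congrArg (fun k => k.left) e
        rw [← e', assoc]
        exact congrArg (fun k => b.hom.unop.left ≫ k) (Over.w (F.map m.left.unop))))
      map_id := fun _ => Subsingleton.elim _ _
      map_comp := fun _ _ => Subsingleton.elim _ _ }
  refine ⟨H, π, fun c => ?_⟩
  obtain ⟨g, hg⟩ := c
  let V : Over T := Over.mk g
  haveI : IsFiltered (CostructuredArrow F.op (op V)) :=
    IsFiltered.of_equivalence (structuredArrowOpEquivalence F V)
  let Φ : CostructuredArrow F.op (op V) ⥤ CostructuredArrow π ⟨⟨g, hg⟩⟩ :=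
    { obj := fun a => CostructuredArrow.mk (Y := CostructuredArrow.mk (Y := a.left)
        (show (F ⋙ Over.map f).op.obj a.left ⟶ x from
          (Over.homMk a.hom.unop.left (show a.hom.unop.left ≫ (F.obj a.left.unop).hom ≫ f = x.unop.hom by
            exact (assoc _ _ _).symm.trans ((congrArg (fun k => k ≫ f) (Over.w a.hom.unop)).trans hg)) : x.unop ⟶ (F ⋙ Over.map f).obj a.left.unop).op))
        (Discrete.eqToHom (Subtype.ext (Over.w a.hom.unop)))
      map := fun {a b} m => CostructuredArrow.homMk (CostructuredArrow.homMk m.left (Quiver.Hom.unop_inj (by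
        ext
        exact congrArg (fun k => k.unop.left) (CostructuredArrow.w m)))) (Subsingleton.elim _ _) }
  haveI : Φ.Faithful := ⟨fun {a b} m m' e => CostructuredArrow.hom_ext _ _ (congrArg (fun k => k.left.left) e)⟩
  haveI : Φ.Full := ⟨fun {a b} m => ⟨CostructuredArrow.homMk m.left.left (Quiver.Hom.unop_inj (by
    ext
    exact congrArg (fun k => k.unop.left) (CostructuredArrow.w m.left))),
    CostructuredArrow.hom_ext _ _ (CostructuredArrow.hom_ext _ _ rfl)⟩⟩
  haveI : Φ.EssSurj := ⟨fun a => by
    let h : V ⟶ F.obj a.left.left.unop := Over.homMk a.left.hom.unop.left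
      (congrArg Subtype.val (Discrete.eq_of_hom a.hom))
    exact ⟨CostructuredArrow.mk h.op, ⟨CostructuredArrow.isoMk (CostructuredArrow.isoMk (Iso.refl _)
      (Quiver.Hom.unop_inj (by ext; simp [Φ, h]))) (Subsingleton.elim _ _)⟩⟩⟩
  haveI : Φ.IsEquivalence := { }
  exact IsFiltered.of_equivalence Φ.asEquivalence

end OverMap

end Groth.L28.MultiFlat
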